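import Mathlib
import Cfsg.Prelude.Def_ClassicalGeometry
import Cfsg.Prelude.Def_GeometricClasses
import Cfsg.Agent.Lib.Helper18.T23.H2.SOTDefs
import Cfsg.Agent.Lib.Helper18.T23.H2.SOTGDefs
import Cfsg.Agent.Lib.Helper25.SpTK

/-!
S5666 part (GA), leaves S1 + S2 + S3 of `notes/S5666_GA_leaves.lean` (exact signatures):
Kronecker isometries of `fV G` are pairs of similitudes with inverse multipliers.
-/

set_option autoImplicit false
set_option linter.unusedSectionVars false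
set_option linter.unusedVariables false

namespace Cfsg.Agent.Lib.Helper18.T23.H11.SOTLeaf
open Matrix Module
open Cfsg.Agent.Lib.Helper25.Tens Cfsg.Agent.Lib.Helper25.SpT Cfsg.Agent.Lib.Helper19.OSub
open Cfsg.Agent.Lib.Helper18.T23.H2.SOT
open scoped Kronecker

variable {F : Type*} [Field F] [Fintype F] {a b : ℕ} {G : Matrix (Fin b) (Fin b) F}
  {M : Subgroup (GL (Idx a b) F)}

/-- the form `fV G` on images of pure tensors under a Kronecker element -/
theorem fV_kel_pt (G : Matrix (Fin b) (Fin b) F) (α : GL (Fin a) F) (β : GL (Fin b) F)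
    (x x' : Fin a → F) (y y' : Fin b → F) :
    fV G (mv (kel α β : GL (Idx a b) F) (pt x y)) (mv (kel α β : GL (Idx a b) F) (pt x' y')) =
      sf ((α : Matrix (Fin a) (Fin a) F) *ᵥ x) ((α : Matrix (Fin a) (Fin a) F) *ᵥ x') *
        fB G ((β : Matrix (Fin b) (Fin b) F) *ᵥ y) ((β : Matrix (Fin b) (Fin b) F) *ᵥ y') := by
  unfold mv
  rw [kel_mulVec_pt, kel_mulVec_pt, fV_pt]

theorem fV_zero_left (G : Matrix (Fin b) (Fin b) F) (w : Idx a b → F) :
    fV G (0 : Idx a b → F) w = 0 := by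
  simp [fV]

theorem fV_zero_right (G : Matrix (Fin b) (Fin b) F) (v : Idx a b → F) :
    fV G v (0 : Idx a b → F) = 0 := by
  simp [fV]

theorem fB_single_single (G : Matrix (Fin b) (Fin b) F) (k l : Fin b) :
    fB G (Pi.single k (1 : F)) (Pi.single l (1 : F)) = G k l := by
  unfold fB
  simp

/-- a hyperbolic pair for `sf` exists when `2 ≤ a` -/
theorem exists_sf_pair_one (ha : 2 ≤ a) : ∃ x x' : Fin a → F, sf x x' = 1 := by
  refine ⟨Pi.single ⟨0, by omega⟩ 1, Pi.single ⟨1, by omega⟩ 1, ?_⟩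
  rw [sf_single_single, Jm_apply]
  simp

/-- (S1) a Kronecker element preserving `fV G` consists of two similitudes with inverse multipliers. -/
theorem sim_of_kel_mem (h : Ctx a b G) (α : GL (Fin a) F) (β : GL (Fin b) F)
    (hk : (kel α β : GL (Idx a b) F) ∈ SpV G) :
    ∃ μ : F, μ ≠ 0 ∧
      (∀ x x' : Fin a → F, sf ((α : Matrix (Fin a) (Fin a) F) *ᵥ x)
        ((α : Matrix (Fin a) (Fin a) F) *ᵥ x') = μ * sf x x') ∧
      (∀ y y' : Fin b → F, fB G ((β : Matrix (Fin b) (Fin b) F) *ᵥ y)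
        ((β : Matrix (Fin b) (Fin b) F) *ᵥ y') = μ⁻¹ * fB G y y') := by
  have key : ∀ (x x' : Fin a → F) (y y' : Fin b → F),
      sf ((α : Matrix (Fin a) (Fin a) F) *ᵥ x) ((α : Matrix (Fin a) (Fin a) F) *ᵥ x') *
        fB G ((β : Matrix (Fin b) (Fin b) F) *ᵥ y) ((β : Matrix (Fin b) (Fin b) F) *ᵥ y') =
      sf x x' * fB G y y' := by
    intro x x' y y'
    rw [← fV_kel_pt, mem_SpV.1 hk, fV_pt]
  obtain ⟨x₀, x₀', hx₀⟩ := exists_sf_pair_one (F := F) h.ha
  have hG0 : G ≠ 0 := by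
    intro h0
    apply h.nd
    rw [h0]
    haveI : Nonempty (Fin b) := ⟨⟨0, by have := h.hb; omega⟩⟩
    exact Matrix.det_zero
  obtain ⟨k, l, hkl⟩ : ∃ k l, G k l ≠ 0 := by
    by_contra hcon
    push Not at hcon
    apply hG0
    ext k l
    exact hcon k l
  set y₀ : Fin b → F := Pi.single k 1
  set y₀' : Fin b → F := Pi.single l 1
  have ht0 : fB G y₀ y₀' ≠ 0 := by
    rw [fB_single_single]; exact hkl
  set s := sf ((α : Matrix (Fin a) (Fin a) F) *ᵥ x₀) ((α : Matrix (Fin a) (Fin a) F) *ᵥ x₀')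
    with hs
  set t := fB G ((β : Matrix (Fin b) (Fin b) F) *ᵥ y₀) ((β : Matrix (Fin b) (Fin b) F) *ᵥ y₀')
    with ht
  have hst : s * t = fB G y₀ y₀' := by
    have := key x₀ x₀' y₀ y₀'
    rw [hx₀, one_mul] at this
    exact this
  have hs0 : s ≠ 0 := by
    intro h0; rw [h0, zero_mul] at hst; exact ht0 hst.symm
  have ht00 : t ≠ 0 := by
    intro h0; rw [h0, mul_zero] at hst; exact ht0 hst.symm
  refine ⟨s, hs0, ?_, ?_⟩
  · intro x x'
    have h1 := key x x' y₀ y₀'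
    rw [← hst] at h1
    have h2 : (sf ((α : Matrix (Fin a) (Fin a) F) *ᵥ x) ((α : Matrix (Fin a) (Fin a) F) *ᵥ x') -
        s * sf x x') * t = 0 := by
      linear_combination h1
    rcases mul_eq_zero.1 h2 with h3 | h3
    · exact sub_eq_zero.1 h3
    · exact absurd h3 ht00
  · intro y y'
    have h1 := key x₀ x₀' y y'
    rw [hx₀, one_mul] at h1
    rw [← h1, ← mul_assoc, inv_mul_cancel₀ hs0, one_mul]

/-- (S2) converse of (S1). -/
theorem kel_mem_SpV (G : Matrix (Fin b) (Fin b) F) (α : GL (Fin a) F) (β : GL (Fin b) F) (μ ν : F)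
    (hμν : μ * ν = 1)
    (hα : ∀ x x' : Fin a → F, sf ((α : Matrix (Fin a) (Fin a) F) *ᵥ x)
      ((α : Matrix (Fin a) (Fin a) F) *ᵥ x') = μ * sf x x')
    (hβ : ∀ y y' : Fin b → F, fB G ((β : Matrix (Fin b) (Fin b) F) *ᵥ y)
      ((β : Matrix (Fin b) (Fin b) F) *ᵥ y') = ν * fB G y y') :
    (kel α β : GL (Idx a b) F) ∈ SpV G := by
  rw [mem_SpV]
  apply pt_induction
  · intro w
    rw [mv_zero, fV_zero_left, fV_zero_left]
  · intro v v' hv hv' w
    rw [mv_add, fV_add_left, fV_add_left, hv, hv']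
  · intro x y
    apply pt_induction
    · rw [mv_zero, fV_zero_right, fV_zero_right]
    · intro w w' hw hw'
      rw [mv_add, fV_add_right, fV_add_right, hw, hw']
    · intro x' y'
      rw [fV_kel_pt, fV_pt, hα, hβ]
      linear_combination (sf x x' * fB G y y') * hμν

/-- (S3) conjugating a root element by a Kronecker element whose first factor is a similitude of
multiplier `μ`. -/
theorem kel_conj_kA (α : GL (Fin a) F) (β : GL (Fin b) F) (μ : F) (hμ : μ ≠ 0)
    (hα : ∀ x x' : Fin a → F, sf ((α : Matrix (Fin a) (Fin a) F) *ᵥ x)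
      ((α : Matrix (Fin a) (Fin a) F) *ᵥ x') = μ * sf x x') (x : Fin a → F) (c : F) :
    (kel α β : GL (Idx a b) F) * kA x c * (kel α β)⁻¹ =
      kA ((α : Matrix (Fin a) (Fin a) F) *ᵥ x) (c * μ⁻¹) := by
  rw [mul_inv_eq_iff_eq_mul]
  apply gl_ext_pt
  intro x' y
  rw [mv_mul, mv_mul, mv_kA_pt]
  unfold mv
  rw [kel_mulVec_pt, kel_mulVec_pt]
  change _ = mv (kA ((α : Matrix (Fin a) (Fin a) F) *ᵥ x) (c * μ⁻¹) : GL (Idx a b) F) _
  rw [mv_kA_pt, hα, Matrix.mulVec_add, Matrix.mulVec_smul]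
  congr 3
  field_simp

end Cfsg.Agent.Lib.Helper18.T23.H11.SOTLeaf
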