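import Mathlib
import Cfsg.Prelude.Def_ClassicalGeometry
import Cfsg.Prelude.Def_GeometricClasses
import Cfsg.Agent.Lib.Helper18.T23.H2.SOTDefs
import Cfsg.Agent.Lib.Helper18.T23.H2.SOTGDefs
import Cfsg.Agent.Lib.Helper18.T23.H4.SOTS
import Cfsg.Agent.Lib.Helper7.SpTN
import Cfsg.Agent.Lib.Helper18.T23.H27.SOTLADefs

/-!
S5666 part (LA), unit U4a of `notes/S5666_LA_leaves.lean` (exact signature): `kel_conj_uMat`
(`torA_conj_uMat`, `exists_torA` are in `SOTLAU4.lean`).
-/

set_option autoImplicit false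
set_option linter.unusedSectionVars false
set_option linter.unusedVariables false

namespace Cfsg.Agent.Lib.Helper18.T23.H11.SOTLALeaf
open Matrix
open Cfsg.Agent.Lib.Helper25.Tens Cfsg.Agent.Lib.Helper25.SpT Cfsg.Agent.Lib.Helper19.OSub
open Cfsg.Agent.Lib.Helper18.T23.H2.SOT Cfsg.Agent.Lib.Helper18.T23.H27.SOTLA
open scoped Kronecker

variable {F : Type*} [Field F] [Fintype F] {a b : ℕ} {G : Matrix (Fin b) (Fin b) F}
  {M : Subgroup (GL (Idx a b) F)}

theorem mul_single_mul_apply {n : ℕ} (A A' : Matrix (Fin n) (Fin n) F) (i j k l : Fin n) :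
    (A * Matrix.single i j (1 : F) * A') k l = A k i * A' j l := by
  rw [Matrix.mul_apply, Finset.sum_eq_single j]
  · rw [Matrix.mul_apply, Finset.sum_eq_single i]
    · rw [Matrix.single_apply_same, mul_one]
    · intro i' _ hi'
      rw [Matrix.single_apply, if_neg (fun h => hi' h.1.symm), mul_zero]
    · intro h; exact absurd (Finset.mem_univ i) h
  · intro j' _ hj'
    rw [Matrix.mul_apply, Finset.sum_eq_zero, zero_mul]
    intro i' _
    rw [Matrix.single_apply, if_neg (fun h => hj' h.2.symm), mul_zero]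
  · intro h; exact absurd (Finset.mem_univ j) h

theorem sum_kron {n m : ℕ} {ι : Type*} (s : Finset ι) (f : ι → Matrix (Fin n) (Fin n) F)
    (X : Matrix (Fin m) (Fin m) F) : (∑ i ∈ s, f i) ⊗ₖ X = ∑ i ∈ s, f i ⊗ₖ X := by
  classical
  induction s using Finset.induction_on with
  | empty => simp
  | insert k s hk ih => rw [Finset.sum_insert hk, Finset.sum_insert hk, Matrix.add_kronecker, ih]

theorem kron_sum {n m : ℕ} {ι : Type*} (s : Finset ι) (E : Matrix (Fin n) (Fin n) F)
    (f : ι → Matrix (Fin m) (Fin m) F) : E ⊗ₖ (∑ i ∈ s, f i) = ∑ i ∈ s, E ⊗ₖ f i := by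
  classical
  induction s using Finset.induction_on with
  | empty => simp
  | insert k s hk ih => rw [Finset.sum_insert hk, Finset.sum_insert hk, Matrix.kronecker_add, ih]

/-- the rows and columns `o`, `o'` of a block-diagonal matrix are unit vectors -/
theorem blockDiag_entries {o o' : Fin a} (hoo' : o ≠ o') {A : Matrix (Fin a) (Fin a) F}
    (hA : BlockDiag o o' A) :
    (∀ k, A k o = if k = o then 1 else 0) ∧ (∀ k, A k o' = if k = o' then 1 else 0) ∧
    (∀ k, A o k = if k = o then 1 else 0) ∧ (∀ k, A o' k = if k = o' then 1 else 0) := by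
  obtain ⟨h1, h2, h3, h4, h5⟩ := hA
  refine ⟨?_, ?_, ?_, ?_⟩
  · intro k
    by_cases hk : k = o
    · rw [hk, if_pos rfl, h1]
    · rw [if_neg hk]
      by_cases hk' : k = o'
      · rw [hk', h4]
      · exact (h5 k hk hk').1
  · intro k
    by_cases hk' : k = o'
    · rw [hk', if_pos rfl, h2]
    · rw [if_neg hk']
      by_cases hk : k = o
      · rw [hk, h3]
      · exact (h5 k hk hk').2.1
  · intro k
    by_cases hk : k = o
    · rw [hk, if_pos rfl, h1]
    · rw [if_neg hk]
      by_cases hk' : k = o'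
      · rw [hk', h3]
      · exact (h5 k hk hk').2.2.1
  · intro k
    by_cases hk' : k = o'
    · rw [hk', if_pos rfl, h2]
    · rw [if_neg hk']
      by_cases hk : k = o
      · rw [hk, h4]
      · exact (h5 k hk hk').2.2.2

/-- the inverse of a matrix with unit rows/columns `o`, `o'` has the same property -/
theorem unit_entries_inv {o o' : Fin a} {A A' : Matrix (Fin a) (Fin a) F}
    (hAA' : A * A' = 1) (hA'A : A' * A = 1)
    (hA : (∀ k, A k o = if k = o then 1 else 0) ∧ (∀ k, A k o' = if k = o' then 1 else 0) ∧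
      (∀ k, A o k = if k = o then 1 else 0) ∧ (∀ k, A o' k = if k = o' then 1 else 0)) :
    (∀ k, A' k o = if k = o then 1 else 0) ∧ (∀ k, A' k o' = if k = o' then 1 else 0) ∧
    (∀ k, A' o k = if k = o then 1 else 0) ∧ (∀ k, A' o' k = if k = o' then 1 else 0) := by
  obtain ⟨c1, c2, r1, r2⟩ := hA
  have col : ∀ p : Fin a, (∀ k, A k p = if k = p then 1 else 0) →
      ∀ k, A' k p = if k = p then 1 else 0 := by
    intro p hp k
    have h := congrFun (congrFun hA'A k) p
    rw [Matrix.mul_apply, Finset.sum_eq_single p, hp p, if_pos rfl, mul_one,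
      Matrix.one_apply] at h
    · exact h
    · intro m _ hm
      rw [hp m, if_neg hm, mul_zero]
    · intro h'
      exact absurd (Finset.mem_univ p) h'
  have row : ∀ p : Fin a, (∀ k, A p k = if k = p then 1 else 0) →
      ∀ k, A' p k = if k = p then 1 else 0 := by
    intro p hp k
    have h := congrFun (congrFun hAA' p) k
    rw [Matrix.mul_apply, Finset.sum_eq_single p, hp p, if_pos rfl, one_mul,
      Matrix.one_apply] at h
    · rw [h]
      by_cases hk : k = p
      · rw [if_pos hk, if_pos hk.symm]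
      · rw [if_neg hk, if_neg (Ne.symm hk)]
    · intro m _ hm
      rw [hp m, if_neg hm, zero_mul]
    · intro h'
      exact absurd (Finset.mem_univ p) h'
  exact ⟨col o c1, col o' c2, row o r1, row o' r2⟩

/-- conjugation of a Kronecker product by a Kronecker element -/
theorem kel_conj_kron (α : GL (Fin a) F) (β : GL (Fin b) F) (E : Matrix (Fin a) (Fin a) F)
    (X : Matrix (Fin b) (Fin b) F) :
    ((kel α β : GL (Idx a b) F) : Matrix (Idx a b) (Idx a b) F) * (E ⊗ₖ X) *
      (((kel α β)⁻¹ : GL (Idx a b) F) : Matrix (Idx a b) (Idx a b) F) =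
      ((α : Matrix (Fin a) (Fin a) F) * E * ((α⁻¹ : GL (Fin a) F) : Matrix (Fin a) (Fin a) F)) ⊗ₖ
        ((β : Matrix (Fin b) (Fin b) F) * X * ((β⁻¹ : GL (Fin b) F) : Matrix (Fin b) (Fin b) F)) := by
  rw [← Cfsg.Agent.Lib.Helper7.SpTLeaf.kel_inv_inv, kel_val, kel_val, ← Matrix.mul_kronecker_mul,
    ← Matrix.mul_kronecker_mul]

/-- (U4a) conjugation by `α ⊗ β`, `α = 1₂ ⊕ φ` block-diagonal. -/
theorem kel_conj_uMat {o o' : Fin a} (hoo' : o ≠ o') (α : GL (Fin a) F) (β : GL (Fin b) F)
    (hα : BlockDiag o o' (α : Matrix (Fin a) (Fin a) F))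
    {θ ρ : Fin a → Matrix (Fin b) (Fin b) F} {Ξ : Matrix (Fin b) (Fin b) F}
    (hθ : Mid o o' θ) (hρ : Mid o o' ρ) :
    Mid o o' (fun k => ∑ i, (α : Matrix (Fin a) (Fin a) F) k i •
      ((β : Matrix (Fin b) (Fin b) F) * θ i * ((β⁻¹ : GL (Fin b) F) : Matrix (Fin b) (Fin b) F))) ∧
    Mid o o' (fun l => ∑ j, ((α⁻¹ : GL (Fin a) F) : Matrix (Fin a) (Fin a) F) j l •
      ((β : Matrix (Fin b) (Fin b) F) * ρ j * ((β⁻¹ : GL (Fin b) F) : Matrix (Fin b) (Fin b) F))) ∧
    ((kel α β : GL (Idx a b) F) : Matrix (Idx a b) (Idx a b) F) * uMat o o' θ ρ Ξ *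
      (((kel α β)⁻¹ : GL (Idx a b) F) : Matrix (Idx a b) (Idx a b) F) =
      uMat o o'
        (fun k => ∑ i, (α : Matrix (Fin a) (Fin a) F) k i •
          ((β : Matrix (Fin b) (Fin b) F) * θ i * ((β⁻¹ : GL (Fin b) F) : Matrix (Fin b) (Fin b) F)))
        (fun l => ∑ j, ((α⁻¹ : GL (Fin a) F) : Matrix (Fin a) (Fin a) F) j l •
          ((β : Matrix (Fin b) (Fin b) F) * ρ j * ((β⁻¹ : GL (Fin b) F) : Matrix (Fin b) (Fin b) F)))
        ((β : Matrix (Fin b) (Fin b) F) * Ξ * ((β⁻¹ : GL (Fin b) F) : Matrix (Fin b) (Fin b) F)) := by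
  set A : Matrix (Fin a) (Fin a) F := (α : Matrix (Fin a) (Fin a) F) with hAdef
  set A' : Matrix (Fin a) (Fin a) F := ((α⁻¹ : GL (Fin a) F) : Matrix (Fin a) (Fin a) F) with hA'def
  set B : Matrix (Fin b) (Fin b) F := (β : Matrix (Fin b) (Fin b) F) with hBdef
  set B' : Matrix (Fin b) (Fin b) F := ((β⁻¹ : GL (Fin b) F) : Matrix (Fin b) (Fin b) F) with hB'def
  have hAA' : A * A' = 1 := by
    rw [hAdef, hA'def, ← Units.val_mul, mul_inv_cancel, Units.val_one]
  have hA'A : A' * A = 1 := by
    rw [hAdef, hA'def, ← Units.val_mul, inv_mul_cancel, Units.val_one]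
  have hBB' : B * B' = 1 := by
    rw [hBdef, hB'def, ← Units.val_mul, mul_inv_cancel, Units.val_one]
  have hAe := blockDiag_entries hoo' hα
  have hA'e := unit_entries_inv hAA' hA'A hAe
  obtain ⟨c1, c2, r1, r2⟩ := hAe
  obtain ⟨c1', c2', r1', r2'⟩ := hA'e
  have hsumrow : ∀ (p : Fin a) (f : Fin a → Matrix (Fin b) (Fin b) F),
      (∀ k, A p k = if k = p then 1 else 0) → ∑ i, A p i • f i = f p := by
    intro p f hp
    rw [Finset.sum_eq_single p]
    · rw [hp p, if_pos rfl, one_smul]
    · intro i _ hi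
      rw [hp i, if_neg hi, zero_smul]
    · intro h
      exact absurd (Finset.mem_univ p) h
  have hsumcol : ∀ (p : Fin a) (f : Fin a → Matrix (Fin b) (Fin b) F),
      (∀ k, A' k p = if k = p then 1 else 0) → ∑ j, A' j p • f j = f p := by
    intro p f hp
    rw [Finset.sum_eq_single p]
    · rw [hp p, if_pos rfl, one_smul]
    · intro i _ hi
      rw [hp i, if_neg hi, zero_smul]
    · intro h
      exact absurd (Finset.mem_univ p) h
  refine ⟨⟨?_, ?_⟩, ⟨?_, ?_⟩, ?_⟩
  · change ∑ i, A o i • (B * θ i * B') = 0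
    rw [hsumrow o _ r1, hθ.1, Matrix.mul_zero, Matrix.zero_mul]
  · change ∑ i, A o' i • (B * θ i * B') = 0
    rw [hsumrow o' _ r2, hθ.2, Matrix.mul_zero, Matrix.zero_mul]
  · change ∑ j, A' j o • (B * ρ j * B') = 0
    rw [hsumcol o _ c1', hρ.1, Matrix.mul_zero, Matrix.zero_mul]
  · change ∑ j, A' j o' • (B * ρ j * B') = 0
    rw [hsumcol o' _ c2', hρ.2, Matrix.mul_zero, Matrix.zero_mul]
  · -- the three conjugated matrix units
    have k1 : ∀ i : Fin a, A * Matrix.single i o' (1 : F) * A' =
        ∑ k, A k i • Matrix.single k o' (1 : F) := by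
      intro i
      ext k l
      rw [mul_single_mul_apply, Matrix.sum_apply, Finset.sum_eq_single k]
      · rw [Matrix.smul_apply, Matrix.single_apply, r2' l, smul_eq_mul]
        by_cases hl : l = o'
        · rw [if_pos hl, if_pos (⟨rfl, hl.symm⟩ : k = k ∧ o' = l)]
        · rw [if_neg hl, if_neg (fun h : k = k ∧ o' = l => hl h.2.symm)]
      · intro k' _ hk'
        rw [Matrix.smul_apply, Matrix.single_apply, if_neg (fun h : k' = k ∧ o' = l => hk' h.1), smul_zero]
      · intro h
        exact absurd (Finset.mem_univ k) h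
    have k2 : ∀ j : Fin a, A * Matrix.single o j (1 : F) * A' =
        ∑ l, A' j l • Matrix.single o l (1 : F) := by
      intro j
      ext k l
      rw [mul_single_mul_apply, Matrix.sum_apply, Finset.sum_eq_single l]
      · rw [Matrix.smul_apply, Matrix.single_apply, c1 k, smul_eq_mul]
        by_cases hk : k = o
        · rw [if_pos hk, if_pos (⟨hk.symm, rfl⟩ : o = k ∧ l = l), one_mul, mul_one]
        · rw [if_neg hk, if_neg (fun h : o = k ∧ l = l => hk h.1.symm), zero_mul, mul_zero]
      · intro l' _ hl'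
        rw [Matrix.smul_apply, Matrix.single_apply, if_neg (fun h : o = k ∧ l' = l => hl' h.2), smul_zero]
      · intro h
        exact absurd (Finset.mem_univ l) h
    have k3 : A * Matrix.single o o' (1 : F) * A' = Matrix.single o o' (1 : F) := by
      ext k l
      rw [mul_single_mul_apply, c1 k, r2' l, Matrix.single_apply]
      by_cases hk : k = o
      · by_cases hl : l = o'
        · rw [if_pos hk, if_pos hl, if_pos (⟨hk.symm, hl.symm⟩ : o = k ∧ o' = l), mul_one]
        · rw [if_pos hk, if_neg hl, if_neg (fun h : o = k ∧ o' = l => hl h.2.symm), mul_zero]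
      · rw [if_neg hk, if_neg (fun h : o = k ∧ o' = l => hk h.1.symm), zero_mul]
    unfold uMat
    rw [Matrix.mul_add, Matrix.mul_add, Matrix.mul_add, Matrix.add_mul, Matrix.add_mul,
      Matrix.add_mul, Matrix.mul_one, ← Units.val_mul, mul_inv_cancel, Units.val_one,
      Finset.mul_sum, Finset.mul_sum, Finset.sum_mul, Finset.sum_mul, kel_conj_kron, k3]
    congr 2
    · congr 1
      -- θ part
      calc ∑ i, ((kel α β : GL (Idx a b) F) : Matrix (Idx a b) (Idx a b) F) *
            (Matrix.single i o' (1 : F) ⊗ₖ θ i) *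
            (((kel α β)⁻¹ : GL (Idx a b) F) : Matrix (Idx a b) (Idx a b) F)
          = ∑ i, ∑ k, Matrix.single k o' (1 : F) ⊗ₖ (A k i • (B * θ i * B')) := by
            apply Finset.sum_congr rfl
            intro i _
            rw [kel_conj_kron, k1, sum_kron]
            apply Finset.sum_congr rfl
            intro k _
            rw [Matrix.smul_kronecker, Matrix.kronecker_smul]
        _ = ∑ k, Matrix.single k o' (1 : F) ⊗ₖ ∑ i, A k i • (B * θ i * B') := by
            rw [Finset.sum_comm]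
            apply Finset.sum_congr rfl
            intro k _
            rw [kron_sum]
    · -- ρ part
      calc ∑ j, ((kel α β : GL (Idx a b) F) : Matrix (Idx a b) (Idx a b) F) *
            (Matrix.single o j (1 : F) ⊗ₖ ρ j) *
            (((kel α β)⁻¹ : GL (Idx a b) F) : Matrix (Idx a b) (Idx a b) F)
          = ∑ j, ∑ l, Matrix.single o l (1 : F) ⊗ₖ (A' j l • (B * ρ j * B')) := by
            apply Finset.sum_congr rfl
            intro j _
            rw [kel_conj_kron, k2, sum_kron]
            apply Finset.sum_congr rfl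
            intro l _
            rw [Matrix.smul_kronecker, Matrix.kronecker_smul]
        _ = ∑ l, Matrix.single o l (1 : F) ⊗ₖ ∑ j, A' j l • (B * ρ j * B') := by
            rw [Finset.sum_comm]
            apply Finset.sum_congr rfl
            intro l _
            rw [kron_sum]

end Cfsg.Agent.Lib.Helper18.T23.H11.SOTLALeaf
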