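import Mathlib
import Cfsg.Prelude.Def_ClassicalGeometry
import Cfsg.Prelude.Def_GeometricClasses
import Cfsg.Agent.Lib.Helper18.T23.H2.SOTDefs
import Cfsg.Agent.Lib.Helper18.T23.H2.SOTGDefs
import Cfsg.Agent.Lib.Helper18.T23.H4.SOTS
import Cfsg.Agent.Lib.Helper7.SpTN
import Cfsg.Agent.Lib.Helper18.T23.H27.SOTLADefs
import Cfsg.Agent.Lib.Helper18.T23.H11.SOTLAU4a

/-!
S5666 part (LA), units U4b, U4c of `notes/S5666_LA_leaves.lean` (exact signatures):
`torA_conj_uMat`, `exists_torA` (`kel_conj_uMat` is in `SOTLAU4a.lean`).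
-/

set_option autoImplicit false
set_option linter.unusedSectionVars false
set_option linter.unusedVariables false

namespace Cfsg.Agent.Lib.Helper18.T23.H11.SOTLALeaf
open Matrix
open Cfsg.Agent.Lib.Helper25.Tens Cfsg.Agent.Lib.Helper25.SpT Cfsg.Agent.Lib.Helper19.OSub
open Cfsg.Agent.Lib.Helper18.T23.H2.SOT Cfsg.Agent.Lib.Helper18.T23.H27.SOTLA
open scoped Kronecker

variable {F : Type*} [Field F] [Fintype F] {a b : ℕ} {G : Matrix (Fin b) (Fin b) F}
  {M : Subgroup (GL (Idx a b) F)}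

theorem torA_mul_torA_inv {o o' : Fin a} {t : F} (ht : t ≠ 0) :
    (torA o o' t : Matrix (Fin a) (Fin a) F) * torA o o' t⁻¹ = 1 := by
  unfold torA
  rw [Matrix.diagonal_mul_diagonal, ← Matrix.diagonal_one]
  congr 1
  funext i
  by_cases hi : i = o
  · rw [if_pos hi, if_pos hi, mul_inv_cancel₀ ht]
  · rw [if_neg hi, if_neg hi]
    by_cases hi' : i = o'
    · rw [if_pos hi', if_pos hi', inv_inv, inv_mul_cancel₀ ht]
    · rw [if_neg hi', if_neg hi', mul_one]

theorem diag_single_diag {n : ℕ} (d d' : Fin n → F) (i j : Fin n) :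
    Matrix.diagonal d * Matrix.single i j (1 : F) * Matrix.diagonal d' =
      (d i * d' j) • Matrix.single i j (1 : F) := by
  ext k l
  rw [mul_single_mul_apply, Matrix.diagonal_apply, Matrix.diagonal_apply, Matrix.smul_apply,
    Matrix.single_apply, smul_eq_mul]
  by_cases hk : k = i
  · by_cases hl : j = l
    · subst hk; subst hl
      rw [if_pos rfl, if_pos rfl, if_pos (⟨rfl, rfl⟩ : k = k ∧ j = j), mul_one]
    · rw [if_neg hl, mul_zero, if_neg (fun h : i = k ∧ j = l => hl h.2), mul_zero]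
  · rw [if_neg hk, zero_mul, if_neg (fun h : i = k ∧ j = l => hk h.1.symm), mul_zero]

/-- (U4b) conjugation by the torus element `diag(t, t⁻¹, 1, …) ⊗ 1`. -/
theorem torA_conj_uMat {o o' : Fin a} (hoo' : o ≠ o') {t : F} (ht : t ≠ 0) (T : GL (Fin a) F)
    (hT : (T : Matrix (Fin a) (Fin a) F) = torA o o' t)
    {θ ρ : Fin a → Matrix (Fin b) (Fin b) F} {Ξ : Matrix (Fin b) (Fin b) F}
    (hθ : Mid o o' θ) (hρ : Mid o o' ρ) :
    ((kel T (1 : GL (Fin b) F) : GL (Idx a b) F) : Matrix (Idx a b) (Idx a b) F) * uMat o o' θ ρ Ξ *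
      (((kel T (1 : GL (Fin b) F))⁻¹ : GL (Idx a b) F) : Matrix (Idx a b) (Idx a b) F) =
      uMat o o' (t • θ) (t • ρ) (t ^ 2 • Ξ) := by
  have hT' : ((T⁻¹ : GL (Fin a) F) : Matrix (Fin a) (Fin a) F) = torA o o' t⁻¹ :=
    Units.inv_eq_of_mul_eq_one_right (by rw [hT]; exact torA_mul_torA_inv ht)
  have hconj : ∀ (i j : Fin a) (X : Matrix (Fin b) (Fin b) F),
      ((kel T (1 : GL (Fin b) F) : GL (Idx a b) F) : Matrix (Idx a b) (Idx a b) F) *
        (Matrix.single i j (1 : F) ⊗ₖ X) *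
        (((kel T (1 : GL (Fin b) F))⁻¹ : GL (Idx a b) F) : Matrix (Idx a b) (Idx a b) F) =
      ((if i = o then t else if i = o' then t⁻¹ else 1) *
        (if j = o then t⁻¹ else if j = o' then t⁻¹⁻¹ else 1)) •
        (Matrix.single i j (1 : F) ⊗ₖ X) := by
    intro i j X
    rw [kel_conj_kron, hT, hT', torA, torA, diag_single_diag, inv_one, Units.val_one,
      Matrix.one_mul, Matrix.mul_one, Matrix.smul_kronecker]
  have hθ' : ∑ i, ((kel T (1 : GL (Fin b) F) : GL (Idx a b) F) : Matrix (Idx a b) (Idx a b) F) *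
        (Matrix.single i o' (1 : F) ⊗ₖ θ i) *
        (((kel T (1 : GL (Fin b) F))⁻¹ : GL (Idx a b) F) : Matrix (Idx a b) (Idx a b) F) =
      ∑ i, Matrix.single i o' (1 : F) ⊗ₖ (t • θ) i := by
    apply Finset.sum_congr rfl
    intro i _
    rw [hconj, Pi.smul_apply, if_neg (Ne.symm hoo'), if_pos rfl, inv_inv]
    by_cases hi : i = o
    · rw [hi, hθ.1, smul_zero, Matrix.kronecker_zero, smul_zero]
    · by_cases hi' : i = o'
      · rw [hi', hθ.2, smul_zero, Matrix.kronecker_zero, smul_zero]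
      · rw [if_neg hi, if_neg hi', one_mul, Matrix.kronecker_smul]
  have hρ' : ∑ j, ((kel T (1 : GL (Fin b) F) : GL (Idx a b) F) : Matrix (Idx a b) (Idx a b) F) *
        (Matrix.single o j (1 : F) ⊗ₖ ρ j) *
        (((kel T (1 : GL (Fin b) F))⁻¹ : GL (Idx a b) F) : Matrix (Idx a b) (Idx a b) F) =
      ∑ j, Matrix.single o j (1 : F) ⊗ₖ (t • ρ) j := by
    apply Finset.sum_congr rfl
    intro j _
    rw [hconj, Pi.smul_apply, if_pos rfl]
    by_cases hj : j = o
    · rw [hj, hρ.1, smul_zero, Matrix.kronecker_zero, smul_zero]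
    · by_cases hj' : j = o'
      · rw [hj', hρ.2, smul_zero, Matrix.kronecker_zero, smul_zero]
      · rw [if_neg hj, if_neg hj', mul_one, Matrix.kronecker_smul]
  have hΞ' : ((kel T (1 : GL (Fin b) F) : GL (Idx a b) F) : Matrix (Idx a b) (Idx a b) F) *
        (Matrix.single o o' (1 : F) ⊗ₖ Ξ) *
        (((kel T (1 : GL (Fin b) F))⁻¹ : GL (Idx a b) F) : Matrix (Idx a b) (Idx a b) F) =
      Matrix.single o o' (1 : F) ⊗ₖ (t ^ 2 • Ξ) := by
    rw [hconj, if_pos rfl, if_neg (Ne.symm hoo'), if_pos rfl, inv_inv, Matrix.kronecker_smul, sq]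
  unfold uMat
  rw [Matrix.mul_add, Matrix.mul_add, Matrix.mul_add, Matrix.add_mul, Matrix.add_mul,
    Matrix.add_mul, Matrix.mul_one, ← Units.val_mul, mul_inv_cancel, Units.val_one,
    Finset.mul_sum, Finset.mul_sum, Finset.sum_mul, Finset.sum_mul, hθ', hρ', hΞ']

theorem torA_Jm {o o' : Fin a} (ho : o.val = 0) (ho' : o'.val = 1) {t : F} (ht : t ≠ 0)
    (i j : Fin a) :
    (if i = o then t else if i = o' then t⁻¹ else 1) *
      (if j = o then t else if j = o' then t⁻¹ else 1) * (Jm a i j : F) = Jm a i j := by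
  have e1 : ∀ i : Fin a, (i = o) ↔ i.val = 0 := fun i => by rw [Fin.ext_iff, ho]
  have e2 : ∀ i : Fin a, (i = o') ↔ i.val = 1 := fun i => by rw [Fin.ext_iff, ho']
  simp only [e1, e2, Jm_apply]
  split_ifs <;> first | (exfalso; omega) | simp [ht]

/-- (U4c) the torus element is symplectic. -/
theorem exists_torA (ea : Even a) {o o' : Fin a} (ho : o.val = 0) (ho' : o'.val = 1) {t : F}
    (ht : t ≠ 0) :
    ∃ T : GL (Fin a) F, (T : Matrix (Fin a) (Fin a) F) = torA o o' t ∧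
      ∀ x x' : Fin a → F, sf ((T : Matrix (Fin a) (Fin a) F) *ᵥ x)
        ((T : Matrix (Fin a) (Fin a) F) *ᵥ x') = sf x x' := by
  have hmul : (torA o o' t : Matrix (Fin a) (Fin a) F) * torA o o' t⁻¹ = 1 := torA_mul_torA_inv ht
  have hmul' : (torA o o' t⁻¹ : Matrix (Fin a) (Fin a) F) * torA o o' t = 1 := by
    have h := torA_mul_torA_inv (o := o) (o' := o') (inv_ne_zero ht)
    rwa [inv_inv] at h
  refine ⟨⟨torA o o' t, torA o o' t⁻¹, hmul, hmul'⟩, rfl, ?_⟩
  intro x x'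
  change sf (torA o o' t *ᵥ x) (torA o o' t *ᵥ x') = sf x x'
  unfold torA
  rw [sf_eq_sum, sf_eq_sum]
  apply Finset.sum_congr rfl
  intro i _
  apply Finset.sum_congr rfl
  intro j _
  rw [Matrix.mulVec_diagonal, Matrix.mulVec_diagonal]
  have h := torA_Jm ho ho' ht i j
  calc (if i = o then t else if i = o' then t⁻¹ else 1) * x i * (Jm a i j : F) *
        ((if j = o then t else if j = o' then t⁻¹ else 1) * x' j)
      = x i * ((if i = o then t else if i = o' then t⁻¹ else 1) *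
          (if j = o then t else if j = o' then t⁻¹ else 1) * (Jm a i j : F)) * x' j := by ring
    _ = x i * (Jm a i j : F) * x' j := by rw [h]

end Cfsg.Agent.Lib.Helper18.T23.H11.SOTLALeaf
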